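import Groth.Agent.ProjCohLib.Gysin
import Groth.Agent.FEtDepthLib.Converse
import Groth.Agent.ProEtFull.DerShift
import Groth.Agent.EtVanish.ArtinSchreier

/-!
# Vanishing of cohomology with supports
-/

set_option autoImplicit false
set_option linter.style.haveILetI false
set_option linter.unusedSectionVars false
set_option backward.isDefEq.respectTransparency false
set_option backward.isDefEq.respectTransparency.types false
set_option maxHeartbeats 1000000

universe u v v' w w'

open CategoryTheory CategoryTheory.Limits AlgebraicGeometry Opposite Pretriangulated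

noncomputable section

namespace Groth.Agent.SuppVanishLib

section Abstract

variable {A : Type w} [Category.{v} A] [Abelian A] {B : Type w'} [Category.{v'} B] [Abelian B]
  {Φ Ψ : A ⥤ B} [Φ.Additive] [Ψ.Additive] [PreservesFiniteLimits Φ] [PreservesFiniteLimits Ψ]
  (τ : Φ ⟶ Ψ) {F : A} (R : InjectiveResolution F)

/-- In degree zero the map of derived functors is the map of the functors. -/
theorem mono_epi_homologyMap_zero :
    (Mono (τ.app F) → Mono (HomologicalComplex.homologyMap
      ((NatTrans.mapHomologicalComplex τ (ComplexShape.up ℕ)).app R.cocomplex) 0)) ∧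
    (Epi (τ.app F) → Epi (HomologicalComplex.homologyMap
      ((NatTrans.mapHomologicalComplex τ (ComplexShape.up ℕ)).app R.cocomplex) 0)) := by
  let f := (NatTrans.mapHomologicalComplex τ (ComplexShape.up ℕ)).app R.cocomplex
  let a := R.toRightDerivedZero' Φ ≫ ((Φ.mapHomologicalComplex (ComplexShape.up ℕ)).obj R.cocomplex).homologyπ 0
  let b := R.toRightDerivedZero' Ψ ≫ ((Ψ.mapHomologicalComplex (ComplexShape.up ℕ)).obj R.cocomplex).homologyπ 0
  haveI : IsIso a := inferInstance
  haveI : IsIso b := inferInstance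
  have e : a ≫ HomologicalComplex.homologyMap f 0 = τ.app F ≫ b := by
    have h1 : R.toRightDerivedZero' Φ ≫ HomologicalComplex.cyclesMap f 0 = τ.app F ≫ R.toRightDerivedZero' Ψ := by
      rw [← cancel_mono (HomologicalComplex.iCycles _ _), Category.assoc, Category.assoc,
        HomologicalComplex.cyclesMap_i, InjectiveResolution.toRightDerivedZero'_comp_iCycles_assoc,
        InjectiveResolution.toRightDerivedZero'_comp_iCycles]
      exact τ.naturality (R.ι.f 0)
    rw [Category.assoc, HomologicalComplex.homologyπ_naturality, ← Category.assoc, h1, Category.assoc]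
  have e' : HomologicalComplex.homologyMap f 0 = inv a ≫ τ.app F ≫ b := by
    rw [← e, IsIso.inv_hom_id_assoc]
  exact ⟨fun h => by rw [e']; infer_instance, fun h => by rw [e']; infer_instance⟩

end Abstract

section Shift

attribute [local instance] HasDerivedCategory.standard

variable {A : Type u} [Category.{v} A] [Abelian A] [EnoughInjectives A]
  {B : Type w} [Category.{v'} B] [Abelian B] (S : A ⥤ B) [S.Additive]

theorem isZero_rightDerived_left {T₀ : ShortComplex A} (hT₀ : T₀.ShortExact) {p : ℕ}
    (h₂ : IsZero ((S.rightDerived (p + 1)).obj T₀.X₂)) (h₃ : IsZero ((S.rightDerived p).obj T₀.X₃)) :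
    IsZero ((S.rightDerived (p + 1)).obj T₀.X₁) := by
  let T : Triangle (DerivedCategory.Plus A) := Triangle.mk
    ((DerivedCategory.Plus.singleFunctor A 0).map T₀.f)
    ((DerivedCategory.Plus.singleFunctor A 0).map T₀.g)
    (ObjectProperty.homMk (hT₀.singleδ ≫ ((DerivedCategory.Plus.ι (C := A)).commShiftIso (1 : ℤ)).inv.app
      ((DerivedCategory.Plus.singleFunctor A 0).obj T₀.X₁)))
  have hT : T ∈ distTriang (DerivedCategory.Plus A) := by
    rw [← (DerivedCategory.Plus.ι (C := A)).map_distinguished_iff]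
    refine isomorphic_distinguished _ hT₀.singleTriangle_distinguished _
      (Triangle.isoMk _ _ (Iso.refl _) (Iso.refl _) (Iso.refl _)
        ((Category.comp_id _).trans (Category.id_comp _).symm)
        ((Category.comp_id _).trans (Category.id_comp _).symm) ?_)
    refine ((congrArg (_ ≫ ·) ((shiftFunctor (DerivedCategory A) (1 : ℤ)).map_id _)).trans
      (Category.comp_id _)).trans (Eq.trans ?_ (Category.id_comp _).symm)
    exact (Category.assoc _ _ _).trans ((congrArg (hT₀.singleδ ≫ ·)
      (((DerivedCategory.Plus.ι (C := A)).commShiftIso (1 : ℤ)).inv_hom_id_app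
        ((DerivedCategory.Plus.singleFunctor A 0).obj T₀.X₁))).trans (Category.comp_id _))
  obtain ⟨e₂⟩ := SpSeqLib.nonempty_rG_single_iso S T₀.X₂ (p + 1)
  obtain ⟨e₁⟩ := SpSeqLib.nonempty_rG_single_iso S T₀.X₁ (p + 1)
  obtain ⟨e₃⟩ := SpSeqLib.nonempty_rG_single_iso S T₀.X₃ p
  refine IsZero.of_iso ?_ e₁.symm
  exact ((SpSeqLib.rG S).homologySequence_exact₁ T hT ((p : ℕ) : ℤ) ((p + 1 : ℕ) : ℤ)
    (by push_cast; rfl)).isZero_of_both_zeros
      ((h₃.of_iso e₃).eq_of_src _ _) ((h₂.of_iso e₂).eq_of_tgt _ _)

theorem isZero_rightDerived_zero_left {T₀ : ShortComplex A} (hT₀ : T₀.ShortExact) [PreservesFiniteLimits S]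
    (h₂ : IsZero ((S.rightDerived 0).obj T₀.X₂)) : IsZero ((S.rightDerived 0).obj T₀.X₁) := by
  haveI := hT₀.mono_f
  exact IsZero.of_mono (S.map T₀.f) (h₂.of_iso (S.rightDerivedZeroIsoSelf.app _).symm) |>.of_iso
    (S.rightDerivedZeroIsoSelf.app _)

end Shift

open SuppCoh (gs)

variable {X U : Scheme.{u}} (j : U ⟶ X) [IsOpenImmersion j] [EtCoh.BCCont j] (F : EtCoh.Ab X)

theorem preservesFiniteLimits_gs (X : Scheme.{u}) : PreservesFiniteLimits (gs X) :=
  preservesFiniteLimits_of_natIso (ProjCohLib.gsCoyonedaIso X).symm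

theorem preservesFiniteLimits_pullPush : PreservesFiniteLimits (EtCoh.pull j ⋙ EtCoh.push j) := by
  haveI : PreservesFiniteLimits (EtCoh.pull j) := S0101.result j
  haveI : (EtCoh.push j).IsRightAdjoint := (EtCoh.pullPushAdj j).isRightAdjoint
  infer_instance

/-- Vanishing of cohomology with supports. -/
theorem isZero_HY :
    (Mono ((gs X).map (EtDual.unitApp j F)) → IsZero ((EtDual.HY j 0).obj F)) ∧
    (∀ q : ℕ, Subsingleton (EtCoh.H X F (q + 1)) →
      ((q = 0 ∧ Epi ((gs X).map (EtDual.unitApp j F))) ∨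
        Subsingleton (EtCoh.H U ((EtCoh.pull j).obj F) q)) → IsZero ((EtDual.HY j (q + 1)).obj F)) := by
  let R := InjectiveResolution.of F
  haveI := preservesFiniteLimits_gs X
  haveI := preservesFiniteLimits_pullPush j
  haveI : PreservesFiniteLimits (EtCoh.pull j) := S0101.result j
  haveI : PreservesFiniteColimits (EtCoh.pull j) := by
    haveI : PreservesColimitsOfSize.{0, 0} (EtCoh.pull j) := (EtCoh.pullPushAdj j).leftAdjoint_preservesColimits
    exact PreservesColimitsOfSize.preservesFiniteColimits _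
  haveI : (EtCoh.push j).Additive := (EtCoh.pullPushAdj j).right_adjoint_additive
  let S := (LocCohLib.sh j F R).map ((gs X).mapHomologicalComplex (ComplexShape.up ℕ))
  have hS : S.ShortExact :=
    HomologicalComplex.shortExact_of_degreewise_shortExact _ fun i => by
      haveI := LocCohLib.isSplitEpi_unitApp j (R.cocomplex.X i)
      exact
        { exact := ShortComplex.exact_of_f_is_kernel _
            (KernelFork.mapIsLimit _ (kernelIsKernel (EtDual.unitApp j (R.cocomplex.X i))) (gs X))
          mono_f := inferInstanceAs (Mono ((gs X).map (kernel.ι (EtDual.unitApp j (R.cocomplex.X i)))))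
          epi_g := inferInstanceAs (Epi ((gs X).map (EtDual.unitApp j (R.cocomplex.X i)))) }
  let τ : 𝟭 (EtCoh.Ab X) ⋙ gs X ⟶ (EtCoh.pull j ⋙ EtCoh.push j) ⋙ gs X :=
    Functor.whiskerRight (EtCoh.pullPushAdj j).unit (gs X)
  have h0 := mono_epi_homologyMap_zero τ R
  have hz : ∀ p : ℕ, Subsingleton (EtCoh.H U ((EtCoh.pull j).obj F) p) → IsZero (S.X₃.homology p) := by
    intro p hp
    let R' : InjectiveResolution ((EtCoh.pull j).obj F) :=
      { cocomplex := ((EtCoh.pull j).mapHomologicalComplex (ComplexShape.up ℕ)).obj R.cocomplex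
        injective := fun i => S17614.injective_pull j (R.cocomplex.X i)
        ι := (HomologicalComplex.singleMapHomologicalComplex (EtCoh.pull j) (ComplexShape.up ℕ) 0).inv.app F ≫
          ((EtCoh.pull j).mapHomologicalComplex (ComplexShape.up ℕ)).map R.ι
        quasiIso := inferInstance }
    let σ : (EtCoh.pull j ⋙ EtCoh.push j) ⋙ gs X ≅ EtCoh.pull j ⋙ gs U :=
      Functor.isoWhiskerLeft (EtCoh.pull j) (EtCore.pushGsecIso j)
    let e₃ : S.X₃ ≅ ((gs U).mapHomologicalComplex (ComplexShape.up ℕ)).obj R'.cocomplex :=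
      (NatIso.mapHomologicalComplex σ (ComplexShape.up ℕ)).app R.cocomplex
    obtain ⟨e⟩ := ProjCohLib.nonempty_rightDerived_gs_iso U ((EtCoh.pull j).obj F) p
    haveI := hp
    exact (AddCommGrpCat.isZero_of_subsingleton (AddCommGrpCat.of (EtCoh.H U ((EtCoh.pull j).obj F) p))).of_iso
      (HomologicalComplex.homologyMapIso e₃ p ≪≫ (R'.isoRightDerivedObj (gs U) p).symm ≪≫ e)
  refine ⟨fun h => ?_, fun q h h' => ?_⟩
  · haveI : Mono (HomologicalComplex.homologyMap S.g 0) := h0.1 h
    haveI := hS.mono_f
    haveI : Mono (HomologicalComplex.homologyMap S.f 0) := by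
      haveI : Mono (HomologicalComplex.cyclesMap S.f 0) := by
        haveI : Mono (HomologicalComplex.cyclesMap S.f 0 ≫ S.X₂.iCycles 0) := by
          rw [HomologicalComplex.cyclesMap_i]
          haveI : Mono (S.f.f 0) := inferInstance
          exact mono_comp _ _
        exact mono_of_mono _ (S.X₂.iCycles 0)
      have e : HomologicalComplex.homologyMap S.f 0 =
          inv (S.X₁.homologyπ 0) ≫ HomologicalComplex.cyclesMap S.f 0 ≫ S.X₂.homologyπ 0 := by
        rw [← HomologicalComplex.homologyπ_naturality, IsIso.inv_hom_id_assoc]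
      rw [e]
      infer_instance
    refine IsZero.of_iso ?_ (R.isoRightDerivedObj (EtDual.gammaSupp j) 0)
    refine IsZero.of_mono_eq_zero (HomologicalComplex.homologyMap S.f 0) ?_
    rw [← cancel_mono (HomologicalComplex.homologyMap S.g 0), zero_comp, ← HomologicalComplex.homologyMap_comp,
      S.zero, HomologicalComplex.homologyMap_zero]
  · obtain ⟨e⟩ := ProjCohLib.nonempty_rightDerived_gs_iso X F (q + 1)
    haveI := h
    have h2 : IsZero (S.X₂.homology (q + 1)) :=
      (AddCommGrpCat.isZero_of_subsingleton (AddCommGrpCat.of (EtCoh.H X F (q + 1)))).of_iso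
        ((R.isoRightDerivedObj (gs X) (q + 1)).symm ≪≫ e)
    refine IsZero.of_iso ?_ (R.isoRightDerivedObj (EtDual.gammaSupp j) (q + 1))
    rcases h' with ⟨rfl, hep⟩ | hU
    · haveI : Epi (HomologicalComplex.homologyMap S.g 0) := h0.2 hep
      have hδ : hS.δ 0 1 rfl = 0 := by
        rw [← cancel_epi (HomologicalComplex.homologyMap S.g 0), comp_zero]
        exact hS.comp_δ 0 1 rfl
      exact (hS.homology_exact₁ 0 1 rfl).isZero_X₂ hδ (h2.eq_of_tgt _ _)
    · exact (hS.homology_exact₁ q (q + 1) rfl).isZero_of_both_zeros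
        ((hz q hU).eq_of_src _ _) (h2.eq_of_tgt _ _)

/-- Global sections of the unit are the restriction map. -/
theorem map_unitApp_top :
    haveI := EtJCont.jCont j
    (gs X).map (EtDual.unitApp j F) = F.obj.map (FEtDepthLib.rho j (EtCoh.top X)).op ≫
      (gs X).map ((EtCoh.push j).map ((EtPtsLib.pullIsoRestr j).inv.app F)) := by
  haveI := EtJCont.jCont j
  show (gs X).map ((EtCoh.pullPushAdj j).unit.app F) = _
  rw [FEtDepthLib.unit_eq_restr, Functor.map_comp]
  rfl

end Groth.Agent.SuppVanishLib
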